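import Mathlib

/-!
# Elementary lemmas for the decomposition-field henselization (helper8)
-/

universe u
open IsLocalRing Polynomial

namespace Groth.Agent.H8.Decomp

section Unique

/-- A simple root of a polynomial over a local ring is unique in its residue class. -/
theorem eq_of_root_of_isUnit_derivative {A : Type*} [CommRing A] [IsLocalRing A] (f : A[X])
    (a b : A) (ha : f.eval a = 0) (hb : f.eval b = 0) (hab : b - a ∈ maximalIdeal A)
    (hu : IsUnit (f.derivative.eval a)) : a = b := by
  obtain ⟨k, hk⟩ := f.binomExpansion a (b - a)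
  rw [add_sub_cancel, hb, ha, zero_add] at hk
  have h1 : (b - a) * (f.derivative.eval a + k * (b - a)) = 0 := by
    rw [hk]; ring
  have h2 : IsUnit (f.derivative.eval a + k * (b - a)) := by
    by_contra hnu
    have h3 : f.derivative.eval a + k * (b - a) ∈ maximalIdeal A := hnu
    have h4 : f.derivative.eval a ∈ maximalIdeal A := by
      have := Ideal.sub_mem _ h3 (Ideal.mul_mem_left _ k hab)
      simpa using this
    exact h4 hu
  have h3 : b - a = 0 := (h2.mul_left_eq_zero).mp h1
  exact (sub_eq_zero.mp h3).symm

end Unique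

section U

variable {A L : Type*} [CommRing A] [IsLocalRing A] [Field L] [Algebra A L]

/-- If `a` is a root of a polynomial over a local ring `A`, integrally closed in the field `L`,
with some unit coefficient, then `a` or `a⁻¹` lies in `A`. -/
theorem mem_or_inv_mem_of_unit_coeff (hinj : Function.Injective (algebraMap A L))
    (hic : IsIntegrallyClosedIn A L) (a : L) :
    ∀ (n : ℕ) (F : A[X]), F.natDegree ≤ n → (∃ i, IsUnit (F.coeff i)) → aeval a F = 0 →
      (∃ b : A, algebraMap A L b = a) ∨ (∃ b : A, algebraMap A L b * a = 1) := by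
  intro n
  induction n with
  | zero =>
    intro F hF ⟨i, hi⟩ h0
    exfalso
    have hFC : F = C (F.coeff 0) := eq_C_of_natDegree_le_zero hF
    have hi0 : i = 0 := by
      by_contra hne
      rw [hFC, coeff_C, if_neg hne] at hi
      exact not_isUnit_zero hi
    subst hi0
    rw [hFC, aeval_C] at h0
    have : F.coeff 0 = 0 := hinj (by rw [h0, map_zero])
    rw [this] at hi
    exact not_isUnit_zero hi
  | succ n ih =>
    intro F hF ⟨i₀, hi₀⟩ h0
    by_cases hdeg : F.natDegree ≤ n
    · exact ih F hdeg ⟨i₀, hi₀⟩ h0
    have hdeg' : F.natDegree = n + 1 := le_antisymm hF (by omega)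
    set b := F.leadingCoeff with hb
    by_cases hbu : IsUnit b
    · left
      obtain ⟨v, hv⟩ := hbu
      have h4 : ((↑v⁻¹ : A) * F.leadingCoeff) = 1 := by
        rw [← hb, ← hv]; exact v.inv_mul
      have hint : IsIntegral A a := by
        refine ⟨C (↑v⁻¹ : A) * F, ?_, ?_⟩
        · rw [Monic, leadingCoeff_mul' (by
            rw [leadingCoeff_C, h4]
            exact one_ne_zero), leadingCoeff_C]
          exact h4
        · rw [← aeval_def, map_mul, h0, mul_zero]
      obtain ⟨c, hc⟩ := (isIntegrallyClosedIn_iff.mp hic).2 hint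
      exact ⟨c, hc⟩
    · -- `b` is not a unit
      have hba : IsIntegral A (b • a) := isIntegral_leadingCoeff_smul F a h0
      obtain ⟨c, hc⟩ := (isIntegrallyClosedIn_iff.mp hic).2 hba
      set G : A[X] := F.eraseLead + C c * X ^ n with hG
      have hGdeg : G.natDegree ≤ n := by
        refine natDegree_add_le_of_degree_le ?_ ?_
        · have := eraseLead_natDegree_le F
          omega
        · exact natDegree_C_mul_X_pow_le c n
      have hGa : aeval a G = 0 := by
        have h1 : aeval a F.eraseLead = aeval a F - algebraMap A L b * a ^ (n + 1) := by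
          rw [← self_sub_C_mul_X_pow, map_sub, map_mul, aeval_C, map_pow, aeval_X, hdeg']
        rw [hG, map_add, h1, h0, map_mul, aeval_C, map_pow, aeval_X, hc, Algebra.smul_def]
        ring
      by_cases hGu : ∃ i, IsUnit (G.coeff i)
      · exact ih G hGdeg hGu hGa
      · right
        push Not at hGu
        have hi₀ne : i₀ ≠ n + 1 := by
          intro h
          apply hbu
          rw [hb, leadingCoeff, hdeg', ← h]
          exact hi₀
        have hi₀le : i₀ ≤ n := by
          by_contra hlt
          have : F.coeff i₀ = 0 := coeff_eq_zero_of_natDegree_lt (by omega)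
          rw [this] at hi₀
          exact not_isUnit_zero hi₀
        have hGcoeff : ∀ i, i ≤ n → G.coeff i = F.coeff i + if i = n then c else 0 := by
          intro i hi
          rw [hG, coeff_add, coeff_C_mul_X_pow, eraseLead_coeff_of_ne i (by omega)]
        have hi₀n : i₀ = n := by
          by_contra hne
          have := hGcoeff i₀ hi₀le
          rw [if_neg hne, add_zero] at this
          exact hGu i₀ (this ▸ hi₀)
        subst hi₀n
        have h2 := hGcoeff i₀ le_rfl
        rw [if_pos rfl] at h2
        have hcu : IsUnit c := by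
          by_contra hcn
          have h3 : F.coeff i₀ + c ∈ maximalIdeal A := h2 ▸ hGu i₀
          have h4 : c ∈ maximalIdeal A := hcn
          have h5 : F.coeff i₀ ∈ maximalIdeal A := by
            have := Ideal.sub_mem _ h3 h4
            simpa using this
          exact h5 hi₀
        refine ⟨↑hcu.unit⁻¹ * b, ?_⟩
        rw [map_mul, mul_assoc, ← Algebra.smul_def b a, ← hc, ← map_mul]
        rw [hcu.val_inv_mul, map_one]

end U

section DVR

variable {R : Type*} [CommRing R] [IsDomain R] [IsDiscreteValuationRing R] {L : Type*} [Field L]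
  [Algebra R L]

/-- An element algebraic over a discrete valuation ring is a root of a polynomial with a unit
coefficient. -/
theorem exists_unit_coeff_of_isAlgebraic (hinj : Function.Injective (algebraMap R L)) (a : L)
    (ha : IsAlgebraic R a) : ∃ F : R[X], (∃ i, IsUnit (F.coeff i)) ∧ aeval a F = 0 := by
  obtain ⟨ϖ, hϖ⟩ := IsDiscreteValuationRing.exists_irreducible R
  obtain ⟨F₀, hF₀, hF₀a⟩ := ha
  have key : ∀ (n : ℕ) (F : R[X]), F ≠ 0 → aeval a F = 0 →
      (∃ u : Rˣ, F.leadingCoeff = u * ϖ ^ n) →
      ∃ F : R[X], (∃ i, IsUnit (F.coeff i)) ∧ aeval a F = 0 := by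
    intro n
    induction n with
    | zero =>
      intro F _ hFa ⟨u, hu⟩
      refine ⟨F, ⟨F.natDegree, ?_⟩, hFa⟩
      rw [coeff_natDegree, hu, pow_zero, mul_one]
      exact u.isUnit
    | succ n ih =>
      intro F hF hFa ⟨u, hu⟩
      by_cases hex : ∃ i, IsUnit (F.coeff i)
      · exact ⟨F, hex, hFa⟩
      push Not at hex
      have hdvd : C ϖ ∣ F := by
        rw [C_dvd_iff_dvd_coeff]
        intro i
        have h1 : F.coeff i ∈ maximalIdeal R := hex i
        rw [hϖ.maximalIdeal_eq, Ideal.mem_span_singleton] at h1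
        exact h1
      obtain ⟨F₁, hF₁⟩ := hdvd
      have hF₁0 : F₁ ≠ 0 := by
        rintro rfl
        exact hF (by rw [hF₁, mul_zero])
      have hϖ0 : ϖ ≠ 0 := hϖ.ne_zero
      have hF₁a : aeval a F₁ = 0 := by
        rw [hF₁, map_mul, aeval_C] at hFa
        rcases mul_eq_zero.mp hFa with h | h
        · exact absurd (hinj (by rw [h, map_zero])) hϖ0
        · exact h
      refine ih F₁ hF₁0 hF₁a ⟨u, ?_⟩
      have h2 : F.leadingCoeff = ϖ * F₁.leadingCoeff := by
        rw [hF₁, leadingCoeff_mul, leadingCoeff_C]
      rw [h2, pow_succ] at hu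
      have : ϖ * F₁.leadingCoeff = ϖ * (↑u * ϖ ^ n) := by rw [hu]; ring
      exact mul_left_cancel₀ hϖ0 this
  obtain ⟨n, u, hnu⟩ := IsDiscreteValuationRing.eq_unit_mul_pow_irreducible
    (leadingCoeff_ne_zero.mpr hF₀) hϖ
  exact key n F₀ hF₀ hF₀a ⟨u, hnu⟩

end DVR

end Groth.Agent.H8.Decomp
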