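import Mathlib
import Groth.Agent.Lib.Helper8.Decomp.LemmaU

universe u
open IsLocalRing Polynomial

namespace Groth.Agent.H8.Decomp

/-- Abstract descent of the henselian property along the fixed field of a set of
automorphisms stabilizing the big local ring. -/
theorem henselian_of_descent {A As L Ks : Type*} [CommRing A] [IsLocalRing A] [CommRing As]
    [HenselianLocalRing As] [Field L] [Field Ks]
    [Algebra A L] (hinj : Function.Injective (algebraMap A L)) (hic : IsIntegrallyClosedIn A L)
    (hU : ∀ l : L, ∃ F : A[X], (∃ i, IsUnit (F.coeff i)) ∧ aeval l F = 0)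
    (v : L →+* Ks) (js : As →+* Ks) (hjs : Function.Injective js) (ι : A →+* As) [IsLocalHom ι]
    (hcomm : ∀ a, js (ι a) = v (algebraMap A L a))
    (G : Set (Ks →+* Ks))
    (hGs : ∀ σ ∈ G, ∃ τ : As →+* As, IsLocalHom τ ∧ ∀ z, js (τ z) = σ (js z))
    (hGv : ∀ σ ∈ G, ∀ l, σ (v l) = v l)
    (hfix : ∀ x : Ks, (∀ σ ∈ G, σ x = x) → ∃ l, v l = x) : HenselianLocalRing A := by
  have hιinj : Function.Injective ι := by
    intro a b hab
    apply hinj
    apply v.injective
    rw [← hcomm, ← hcomm, hab]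
  refine ⟨fun f hf a₀ h1 h2 => ?_⟩
  set fs := f.map ι with hfs
  have hfsm : fs.Monic := hf.map ι
  have h1s : fs.eval (ι a₀) ∈ maximalIdeal As := by
    rw [hfs, eval_map_apply]
    exact map_nonunit ι _ h1
  have h2s : IsUnit (fs.derivative.eval (ι a₀)) := by
    rw [hfs, derivative_map, eval_map_apply]
    exact h2.map ι
  obtain ⟨α, hα, hαa₀⟩ := HenselianLocalRing.is_henselian fs hfsm (ι a₀) h1s h2s
  have hα0 : fs.eval α = 0 := hα
  -- the derivative at `α` is a unit
  have h2α : IsUnit (fs.derivative.eval α) := by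
    by_contra hnu
    have h3 : fs.derivative.eval α ∈ maximalIdeal As := hnu
    have h4 : fs.derivative.eval α - fs.derivative.eval (ι a₀) ∈ maximalIdeal As := by
      obtain ⟨c, hc⟩ := sub_dvd_eval_sub α (ι a₀) fs.derivative
      rw [hc]
      exact Ideal.mul_mem_right _ _ hαa₀
    have h5 : fs.derivative.eval (ι a₀) ∈ maximalIdeal As := by
      have := Ideal.sub_mem _ h3 h4
      simpa using this
    exact h5 h2s
  -- `js α` is fixed by `G`
  have hfixα : ∀ σ ∈ G, σ (js α) = js α := by
    intro σ hσ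
    obtain ⟨τ, hτloc, hτ⟩ := hGs σ hσ
    have hτι : ∀ a, τ (ι a) = ι a := by
      intro a
      apply hjs
      rw [hτ, hcomm, hGv σ hσ]
    have hmap : fs.map τ = fs := by
      rw [hfs, map_map]
      congr 1
      exact RingHom.ext hτι
    have hβ0 : fs.eval (τ α) = 0 := by
      have := eval_map_apply (p := fs) τ α
      rw [hmap, hα0, map_zero] at this
      exact this
    have hβa₀ : τ α - α ∈ maximalIdeal As := by
      have h6 : τ (α - ι a₀) ∈ maximalIdeal As := map_nonunit τ _ hαa₀
      rw [map_sub, hτι] at h6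
      have := Ideal.sub_mem _ h6 hαa₀
      simpa using this
    have := eq_of_root_of_isUnit_derivative fs α (τ α) hα0 hβ0 hβa₀ h2α
    rw [← hτ, ← this]
  obtain ⟨l, hl⟩ := hfix (js α) hfixα
  -- `l` comes from `A`
  obtain ⟨F, hFu, hFl⟩ := hU l
  have hmem : ∃ b : A, algebraMap A L b = l := by
    rcases mem_or_inv_mem_of_unit_coeff hinj hic l F.natDegree F le_rfl hFu hFl with h | ⟨b, hb⟩
    · exact h
    · have h7 : js (ι b * α) = 1 := by
        rw [map_mul, hcomm, ← hl, ← map_mul, hb, map_one]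
      have h8 : ι b * α = 1 := hjs (by rw [h7, map_one])
      have h9 : IsUnit (ι b) := IsUnit.of_mul_eq_one _ h8
      have h10 : IsUnit b := (isUnit_map_iff ι b).mp h9
      obtain ⟨w, hw⟩ := h10
      refine ⟨↑w⁻¹, ?_⟩
      have h11 : algebraMap A L (↑w⁻¹) * algebraMap A L b = 1 := by
        rw [← map_mul, ← hw, Units.inv_mul, map_one]
      calc algebraMap A L (↑w⁻¹) = algebraMap A L (↑w⁻¹) * (algebraMap A L b * l) := by
            rw [hb, mul_one]
        _ = l := by rw [← mul_assoc, h11, one_mul]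
  obtain ⟨b, hb⟩ := hmem
  have hιb : ι b = α := hjs (by rw [hcomm, hb, hl])
  refine ⟨b, ?_, ?_⟩
  · show f.eval b = 0
    apply hιinj
    rw [map_zero, ← eval_map_apply, ← hfs, hιb, hα0]
  · by_contra hnu
    have h12 : IsUnit (b - a₀) := by
      by_contra h
      exact hnu h
    have h13 : IsUnit (ι (b - a₀)) := h12.map ι
    rw [map_sub, hιb] at h13
    exact hαa₀ h13

end Groth.Agent.H8.Decomp
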