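import Mathlib
import Groth.Agent.Lib.Helper8.Decomp.Core
import Groth.Agent.Lib.Helper8.Hens.NormalSepClosed

universe u
open IsLocalRing Polynomial

namespace Groth.Agent.H8.Decomp

section Pkg

variable (R : Type u) [CommRing R] [IsDomain R] (M : Type u) [Field M] [Algebra R M]
  [Algebra.IsAlgebraic R M]

/-- The local ring of the integral closure of `R` in an algebraic field extension `M`, with its
embedding into `M`. -/
theorem exists_package (hinj : Function.Injective (algebraMap R M))
    (P : Ideal (integralClosure R M)) [P.IsPrime] :
    ∃ j : Localization.AtPrime P →+* M,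
      (∀ c : integralClosure R M, j (algebraMap _ _ c) = (c : M)) ∧ Function.Injective j ∧
      (letI := j.toAlgebra; IsFractionRing (Localization.AtPrime P) M) ∧
      IsIntegrallyClosed (Localization.AtPrime P) := by
  haveI : IsFractionRing (integralClosure R M) M :=
    integralClosure.isFractionRing_of_algebraic (A := R) (L := M)
      (fun x hx => hinj (by rw [hx, map_zero]))
  haveI : IsIntegrallyClosed (integralClosure R M) :=
    (isIntegrallyClosed_iff_isIntegrallyClosedIn M).mpr inferInstance
  haveI : IsIntegrallyClosed (Localization.AtPrime P) :=
    isIntegrallyClosed_of_isLocalization (Localization.AtPrime P) P.primeCompl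
      (Ideal.primeCompl_le_nonZeroDivisors P)
  have hunit : ∀ y : P.primeCompl, IsUnit (algebraMap (integralClosure R M) M y) := fun y => by
    refine IsUnit.mk0 _ (fun h => ?_)
    have h0 : (y : integralClosure R M) = 0 :=
      IsFractionRing.injective (integralClosure R M) M (h.trans (map_zero _).symm)
    exact y.2 (h0 ▸ P.zero_mem)
  let j : Localization.AtPrime P →+* M := IsLocalization.lift hunit
  letI : Algebra (Localization.AtPrime P) M := j.toAlgebra
  haveI : IsScalarTower (integralClosure R M) (Localization.AtPrime P) M :=
    IsScalarTower.of_algebraMap_eq (fun x => (IsLocalization.lift_eq hunit x).symm)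
  haveI hfr : IsFractionRing (Localization.AtPrime P) M :=
    IsFractionRing.isFractionRing_of_isDomain_of_isLocalization P.primeCompl
      (Localization.AtPrime P) M
  refine ⟨j, fun c => IsLocalization.lift_eq hunit c, ?_, hfr, inferInstance⟩
  exact IsFractionRing.injective (Localization.AtPrime P) M

end Pkg

end Groth.Agent.H8.Decomp
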