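import Mathlib
import Groth.Agent.Lib.Helper8.Decomp.Pkg

universe u
open IsLocalRing Polynomial

namespace Groth.Agent.H8.Decomp

open Groth.Agent.H8.Hens

section Main

variable (R K Ks : Type u) [CommRing R] [IsDomain R] [IsDiscreteValuationRing R] [Field K]
  [Algebra R K] [IsFractionRing R K] [Field Ks] [Algebra K Ks] [IsSepClosure K Ks] [Algebra R Ks]
  [IsScalarTower R K Ks]

/-- The localization of the integral closure of a discrete valuation ring in the fixed field of a
group generated by automorphisms stabilizing a maximal ideal `Ps` of the integral closure in the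
separable closure, at the prime below `Ps`, is henselian. -/
theorem henselian_localization_fixedField
    (Ps : Ideal (integralClosure R Ks)) [Ps.IsMaximal]
    (G : Set (Ks ≃ₐ[K] Ks))
    (hG : ∀ σ ∈ G, ∀ x : integralClosure R Ks, x ∈ Ps →
      ∃ h : σ (x : Ks) ∈ integralClosure R Ks, (⟨σ (x : Ks), h⟩ : integralClosure R Ks) ∈ Ps)
    (L : IntermediateField K Ks)
    (hL : L = IntermediateField.fixedField (Subgroup.closure G))
    (Q : Ideal (integralClosure R L)) [Q.IsPrime]
    (hQ : ∀ y : integralClosure R L, y ∈ Q ↔
      ∃ x : integralClosure R Ks, x ∈ Ps ∧ (x : Ks) = ((y : L) : Ks)) :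
    HenselianLocalRing (Localization.AtPrime Q) := by
  classical
  haveI : Algebra.IsSeparable K Ks := IsSepClosure.separable
  haveI : Algebra.IsAlgebraic K Ks := Algebra.IsSeparable.isAlgebraic K Ks
  haveI : Algebra.IsAlgebraic R Ks := (IsFractionRing.comap_isAlgebraic_iff (A := R) (K := K)).mpr
    inferInstance
  haveI : Algebra.IsAlgebraic K L := Algebra.IsAlgebraic.of_injective L.val L.val.injective
  haveI : Algebra.IsAlgebraic R L := (IsFractionRing.comap_isAlgebraic_iff (A := R) (K := K)).mpr
    inferInstance
  have hinjKs : Function.Injective (algebraMap R Ks) := by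
    rw [IsScalarTower.algebraMap_eq R K Ks]
    exact (algebraMap K Ks).injective.comp (IsFractionRing.injective R K)
  have hinjL : Function.Injective (algebraMap R L) := by
    rw [IsScalarTower.algebraMap_eq R K L]
    exact (algebraMap K L).injective.comp (IsFractionRing.injective R K)
  obtain ⟨js, hjs, hjsinj, hjsfr, hjsic⟩ := exists_package R Ks hinjKs Ps
  obtain ⟨jL, hjL, hjLinj, hjLfr, hjLic⟩ := exists_package R L hinjL Q
  haveI : IsSepClosed Ks := IsSepClosure.sep_closed K
  haveI : HenselianLocalRing (Localization.AtPrime Ps) := by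
    letI := js.toAlgebra
    haveI := hjsfr
    haveI := hjsic
    exact henselianLocalRing_of_normal_of_isSepClosed (Localization.AtPrime Ps) Ks
  letI : Algebra (Localization.AtPrime Q) L := jL.toAlgebra
  haveI := hjLfr
  have hic : IsIntegrallyClosedIn (Localization.AtPrime Q) L :=
    (isIntegrallyClosed_iff_isIntegrallyClosedIn L).mp hjLic
  let φ : integralClosure R L →ₐ[R] integralClosure R Ks :=
    (L.val.restrictScalars R).mapIntegralClosure
  have hφ : ∀ c, ((φ c : integralClosure R Ks) : Ks) = ((c : L) : Ks) := fun c => rfl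
  have hQφ : Q = Ps.comap φ.toRingHom := by
    ext y
    rw [hQ, Ideal.mem_comap]
    constructor
    · rintro ⟨x, hx, hxy⟩
      have : x = φ y := Subtype.ext hxy
      rw [this] at hx
      exact hx
    · intro h
      exact ⟨φ y, h, rfl⟩
  let ι : Localization.AtPrime Q →+* Localization.AtPrime Ps :=
    Localization.localRingHom Q Ps φ.toRingHom hQφ
  haveI : IsLocalHom ι := Localization.isLocalHom_localRingHom _ _ _ _
  have hcomm' : js.comp ι = (L.val : L →+* Ks).comp jL := by
    apply IsLocalization.ringHom_ext Q.primeCompl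
    ext c
    simp only [RingHom.comp_apply]
    rw [Localization.localRingHom_to_map, hjs, hjL]
    rfl
  have hcomm : ∀ a, js (ι a) = (L.val : L →+* Ks) (algebraMap (Localization.AtPrime Q) L a) :=
    fun a => congrArg (fun w => w a) hcomm'
  -- unit coefficients
  have hU : ∀ l : L, ∃ F : (Localization.AtPrime Q)[X], (∃ i, IsUnit (F.coeff i)) ∧
      aeval l F = 0 := by
    intro l
    obtain ⟨F₀, ⟨i, hi⟩, hF₀⟩ := exists_unit_coeff_of_isAlgebraic (R := R) hinjL l
      (Algebra.IsAlgebraic.isAlgebraic l)
    haveI : IsScalarTower R (Localization.AtPrime Q) L := by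
      refine IsScalarTower.of_algebraMap_eq fun r => ?_
      rw [IsScalarTower.algebraMap_apply R (integralClosure R L) (Localization.AtPrime Q)]
      show _ = jL _
      rw [hjL]
      rfl
    refine ⟨F₀.map (algebraMap R (Localization.AtPrime Q)), ⟨i, ?_⟩, ?_⟩
    · rw [coeff_map]
      exact hi.map _
    · rw [aeval_map_algebraMap]
      exact hF₀
  refine henselian_of_descent hjLinj hic hU (L.val : L →+* Ks) js hjsinj ι hcomm
    ((fun σ : Ks ≃ₐ[K] Ks => (σ : Ks →+* Ks)) '' G) ?_ ?_ ?_
  · rintro _ ⟨σ, hσ, rfl⟩
    let σB : integralClosure R Ks →ₐ[R] integralClosure R Ks :=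
      ((σ : Ks →ₐ[K] Ks).restrictScalars R).mapIntegralClosure
    have hσB : ∀ x, ((σB x : integralClosure R Ks) : Ks) = σ (x : Ks) := fun x => rfl
    have hle : Ps ≤ Ps.comap σB.toRingHom := by
      intro x hx
      obtain ⟨h, hmem⟩ := hG σ hσ x hx
      rw [Ideal.mem_comap]
      have : σB.toRingHom x = ⟨σ (x : Ks), h⟩ := Subtype.ext rfl
      rw [this]
      exact hmem
    have hne : Ps.comap σB.toRingHom ≠ ⊤ := (Ideal.comap_isPrime _ _).ne_top
    have heq : Ps = Ps.comap σB.toRingHom := Ideal.IsMaximal.eq_of_le inferInstance hne hle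
    refine ⟨Localization.localRingHom Ps Ps σB.toRingHom heq,
      Localization.isLocalHom_localRingHom _ _ _ _, ?_⟩
    have hc : js.comp (Localization.localRingHom Ps Ps σB.toRingHom heq) =
        (σ : Ks →+* Ks).comp js := by
      apply IsLocalization.ringHom_ext Ps.primeCompl
      ext c
      simp only [RingHom.comp_apply]
      rw [Localization.localRingHom_to_map, hjs, hjs]
      rfl
    exact fun z => congrArg (fun w => w z) hc
  · rintro _ ⟨σ, hσ, rfl⟩ l
    have hl : (l : Ks) ∈ IntermediateField.fixedField (Subgroup.closure G) := hL ▸ l.2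
    exact (IntermediateField.mem_fixedField_iff _ _).mp hl σ (Subgroup.subset_closure hσ)
  · intro x hx
    have hmem : x ∈ IntermediateField.fixedField (Subgroup.closure G) := by
      rw [IntermediateField.mem_fixedField_iff]
      intro f hf
      have hle : Subgroup.closure G ≤ MulAction.stabilizer (Ks ≃ₐ[K] Ks) x := by
        rw [Subgroup.closure_le]
        intro σ hσ
        exact hx _ ⟨σ, hσ, rfl⟩
      exact hle hf
    rw [← hL] at hmem
    exact ⟨⟨x, hmem⟩, rfl⟩

end Main

end Groth.Agent.H8.Decomp
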